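import Cfsg.Agent.S0081
import Cfsg.Agent.S0721
import Cfsg.Agent.Core.Frattini
import Cfsg.Agent.Core.Cores
import Cfsg.Agent.Transfer.Complement

/-! Groups whose Sylow subgroups have abelianisation of order `p²`. -/

set_option autoImplicit false

namespace Cfsg.Agent.KnownB.Misc

open Cfsg
open scoped commutatorElement

universe u

section Basic

variable {G : Type u} [Group G] [Finite G] {p : ℕ} [hp : Fact p.Prime]

/-- A `p`-group with abelianisation of order at most `p` is commutative. -/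
theorem comm_of_ab {H : Type*} [Group H] [Finite H] (hH : IsPGroup p H)
    (h : (commutator H).index ≤ p) (a b : H) : a * b = b * a := by
  haveI := hH.isNilpotent
  obtain ⟨x, hx⟩ : ∃ x : H, Subgroup.zpowers x ⊔ commutator H = ⊤ := by
    obtain ⟨k, hk⟩ := hH.index (commutator H)
    rcases Nat.lt_or_ge k 1 with hk0 | hk1
    · obtain rfl : k = 0 := by omega
      exact ⟨1, by rw [Subgroup.index_eq_one.mp (hk.trans (pow_zero p)), sup_top_eq]⟩
    have hk1' : k = 1 := by
      by_contra hne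
      have : p ^ 2 ≤ p ^ k := Nat.pow_le_pow_right hp.out.pos (by omega)
      have h2 := hp.out.two_le
      nlinarith
    subst hk1'
    rw [pow_one] at hk
    obtain ⟨x, -, hx⟩ := SetLike.exists_of_lt (lt_top_iff_ne_top.mpr fun e : commutator H = ⊤ => by
      rw [e, Subgroup.index_top] at hk
      exact hp.out.ne_one hk.symm)
    refine ⟨x, ?_⟩
    have hlt : commutator H < Subgroup.zpowers x ⊔ commutator H :=
      lt_of_le_of_ne le_sup_right fun e => hx (e ▸ Subgroup.mem_sup_left (Subgroup.mem_zpowers x))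
    have h1 := Subgroup.index_strictAnti hlt
    rcases (Nat.dvd_prime hp.out).mp (hk ▸ Subgroup.index_dvd_of_le hlt.le) with e | e
    · exact Subgroup.index_eq_one.mp e
    · omega
  have htop : Subgroup.zpowers x = ⊤ := frattini_nongenerating
    (top_le_iff.mp (hx.ge.trans (sup_le_sup_left Core.commutator_le_frattini_of_isNilpotent _)))
  obtain ⟨i, rfl⟩ := Subgroup.mem_zpowers_iff.mp (htop.ge (Subgroup.mem_top a))
  obtain ⟨j, rfl⟩ := Subgroup.mem_zpowers_iff.mp (htop.ge (Subgroup.mem_top b))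
  exact (Commute.refl x).zpow_zpow i j

omit hp in
theorem relIndex_commutator (D : Subgroup G) :
    ⁅D, D⁆.relIndex D = (commutator D).index := by
  rw [← Subgroup.map_subtype_commutator, Subgroup.relIndex, Subgroup.subgroupOf,
    Subgroup.comap_map_eq_self_of_injective D.subtype_injective]

theorem comm_of_relIndex {D : Subgroup G} (hD : IsPGroup p D) (h : ⁅D, D⁆.relIndex D ≤ p)
    {a b : G} (ha : a ∈ D) (hb : b ∈ D) : a * b = b * a :=
  congrArg Subtype.val (comm_of_ab hD (relIndex_commutator D ▸ h) ⟨a, ha⟩ ⟨b, hb⟩)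

/-- A quotient generated by commuting elements. -/
theorem comm_le_of {H : Type*} [Group H] (L : Subgroup H) [L.Normal] (B : Subgroup H) (z : H)
    (hgen : B ⊔ Subgroup.zpowers z = ⊤) (hB : ∀ a ∈ B, ∀ b ∈ B, ⁅a, b⁆ ∈ L)
    (hz : ∀ b ∈ B, ⁅z, b⁆ ∈ L) : commutator H ≤ L := by
  let q := QuotientGroup.mk' L
  have hq : ∀ a b : H, ⁅a, b⁆ ∈ L ↔ q a * q b = q b * q a := fun a b => by
    rw [← QuotientGroup.eq_one_iff (N := L), ← commutatorElement_eq_one_iff_mul_comm,
      ← map_commutatorElement]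
    rfl
  let S : Set H := (B : Set H) ∪ {z}
  have hS : Subgroup.closure S = ⊤ := by
    rw [Subgroup.closure_union, Subgroup.closure_eq, ← Subgroup.zpowers_eq_closure, hgen]
  have h1 : ∀ a ∈ S, ∀ b, q a * q b = q b * q a := by
    intro a ha b
    have hb : b ∈ Subgroup.closure S := hS ▸ Subgroup.mem_top b
    have hsub : S ⊆ ((Subgroup.centralizer {q a}).comap q : Subgroup H) := by
      intro s hs
      rw [SetLike.mem_coe, Subgroup.mem_comap, Subgroup.mem_centralizer_singleton_iff]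
      rcases ha with ha | rfl <;> rcases hs with hs | rfl
      · exact ((hq _ _).mp (hB a ha s hs)).symm
      · exact (hq _ _).mp (hz a ha)
      · exact ((hq _ _).mp (hz s hs)).symm
      · rfl
    have := (Subgroup.closure_le _).mpr hsub hb
    rw [Subgroup.mem_comap, Subgroup.mem_centralizer_singleton_iff] at this
    exact this.symm
  rw [commutator_def, Subgroup.commutator_le]
  intro a _ b _
  rw [hq]
  have ha : a ∈ Subgroup.closure S := hS ▸ Subgroup.mem_top a
  have hsub : S ⊆ ((Subgroup.centralizer {q b}).comap q : Subgroup H) := fun s hs => by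
    rw [SetLike.mem_coe, Subgroup.mem_comap, Subgroup.mem_centralizer_singleton_iff]
    exact h1 s hs b
  have := (Subgroup.closure_le _).mpr hsub ha
  rw [Subgroup.mem_comap, Subgroup.mem_centralizer_singleton_iff] at this
  exact this

/-- A maximal subgroup above the derived group splitting into two invariant factors. -/
theorem split_contra {H : Type u} [Group H] [Finite H] (hH : IsPGroup p H) (X Y B : Subgroup H)
    [X.Normal] [Y.Normal] (hX : X ≠ ⊥) (hY : Y ≠ ⊥) (hXY : X ⊓ Y = ⊥) (hB : B = X ⊔ Y) (z : H)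
    (hgen : B ⊔ Subgroup.zpowers z = ⊤) (hle : commutator H ≤ B)
    (hidx : (commutator H).relIndex B = p) : False := by
  haveI := hH.isNilpotent
  suffices key : ∀ X Y : Subgroup H, X.Normal → Y.Normal → X ≠ ⊥ → X ⊓ Y = ⊥ → B = X ⊔ Y →
      Y ≤ commutator H by
    have h1 : B ≤ commutator H := hB.le.trans (sup_le
      (key Y X inferInstance inferInstance hY (inf_comm X Y ▸ hXY) (hB.trans (sup_comm X Y)))
      (key X Y inferInstance inferInstance hX hXY hB))
    rw [Subgroup.relIndex_eq_one.mpr h1] at hidx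
    exact hp.out.ne_one hidx.symm
  intro X Y hXn hYn hX hXY hB
  set L := ⁅X, (⊤ : Subgroup H)⁆ ⊔ Y with hL
  have hcom : commutator H ≤ L := by
    refine comm_le_of L B z hgen (fun a ha b hb => ?_) fun b hb => ?_
    · rw [hB, ← SetLike.mem_coe, Subgroup.mul_normal] at ha
      obtain ⟨x, hx, y, hy, rfl⟩ := ha
      have e : ⁅x * y, b⁆ = x * ⁅y, b⁆ * x⁻¹ * ⁅x, b⁆ := by
        simp [commutatorElement_def, mul_assoc]
      rw [e]
      refine mul_mem ((inferInstance : L.Normal).conj_mem _ ?_ x)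
        (Subgroup.mem_sup_left (Subgroup.commutator_mem_commutator hx (Subgroup.mem_top _)))
      exact Subgroup.mem_sup_right (Subgroup.commutator_le_left Y ⊤
        (Subgroup.commutator_mem_commutator hy (Subgroup.mem_top _)))
    · rw [hB, ← SetLike.mem_coe, Subgroup.mul_normal] at hb
      obtain ⟨x, hx, y, hy, rfl⟩ := hb
      have e : ⁅z, x * y⁆ = ⁅z, x⁆ * (x * ⁅z, y⁆ * x⁻¹) := by
        simp [commutatorElement_def, mul_assoc]
      rw [e]
      refine mul_mem (Subgroup.mem_sup_left ?_) ((inferInstance : L.Normal).conj_mem _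
        (Subgroup.mem_sup_right (Subgroup.commutator_le_right ⊤ Y
          (Subgroup.commutator_mem_commutator (Subgroup.mem_top _) hy))) x)
      rw [Subgroup.commutator_comm]
      exact Subgroup.commutator_mem_commutator (Subgroup.mem_top _) hx
  have hLB : L ≤ B :=
    hB ▸ sup_le ((Subgroup.commutator_le_left X ⊤).trans le_sup_left) le_sup_right
  have hne : ¬ B ≤ L := by
    intro hBL
    refine hX (Transfer.eq_bot_of_le_commutator (P := ⊤) le_top fun x hx => ?_)
    have hxL : x ∈ L := hBL (hB ▸ Subgroup.mem_sup_left hx)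
    rw [hL, ← SetLike.mem_coe, Subgroup.normal_mul] at hxL
    obtain ⟨c, hc, y, hy, rfl⟩ := hxL
    have hyX : y ∈ X ⊓ Y :=
      ⟨by simpa using X.mul_mem (X.inv_mem (Subgroup.commutator_le_left X ⊤ hc)) hx, hy⟩
    rw [hXY, Subgroup.mem_bot] at hyX
    subst hyX
    simpa using hc
  have hmul := Subgroup.relIndex_mul_relIndex (commutator H) L B hcom hLB
  rw [hidx] at hmul
  rcases (Nat.dvd_prime hp.out).mp ⟨_, hmul.symm⟩ with e | e
  · exact le_sup_right.trans (Subgroup.relIndex_eq_one.mp e)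
  · rw [e] at hmul
    exact absurd (Subgroup.relIndex_eq_one.mp ((Nat.mul_eq_left hp.out.ne_zero).mp hmul)) hne

end Basic

section Power

variable {T : Type} [Group T] [IsSimpleGroup T] {m : ℕ}

/-- An automorphism of a power of a non-abelian simple group moves factors to factors. -/
theorem exists_factor (hT : ¬ IsMulCommutative T) (α : MulAut (Fin m → T)) (i : Fin m) :
    ∃ j, ∀ t k, k ≠ j → α (Pi.mulSingle i t) k = 1 := by
  classical
  have hZ : Subgroup.center T = ⊥ := by
    rcases IsSimpleGroup.eq_bot_or_eq_top_of_normal (Subgroup.center T) inferInstance with h | h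
    · exact h
    · exact absurd ⟨⟨fun a b => (Subgroup.mem_center_iff.mp (h ▸ Subgroup.mem_top b) a)⟩⟩ hT
  obtain ⟨t, s, hts⟩ : ∃ t s : T, t * s ≠ s * t := by
    by_contra h
    push_neg at h
    exact hT ⟨⟨h⟩⟩
  let β : T →* (Fin m → T) := α.toMonoidHom.comp (MonoidHom.mulSingle (fun _ : Fin m => T) i)
  have hβ : ∀ t, β t = α (Pi.mulSingle i t) := fun _ => rfl
  obtain ⟨j, hj⟩ : ∃ j, β t j ≠ 1 := by
    by_contra h
    push_neg at h
    refine hts ?_
    have : t = 1 := by
      have h1 : α (Pi.mulSingle i t) = 1 := funext h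
      rw [map_eq_one_iff α α.injective] at h1
      simpa using congrFun h1 i
    simp [this]
  obtain ⟨r, hr⟩ : ∃ r, β t j * r ≠ r * β t j := by
    by_contra h
    push_neg at h
    exact hj (Subgroup.mem_bot.mp (hZ ▸ Subgroup.mem_center_iff.mpr fun g => (h g).symm))
  let J : Subgroup (Fin m → T) := (MonoidHom.mulSingle (fun _ : Fin m => T) j).range
  haveI : J.Normal := ⟨by
    rintro _ ⟨a, rfl⟩ g
    refine ⟨g j * a * (g j)⁻¹, funext fun k => ?_⟩
    by_cases hk : k = j
    · subst hk; simp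
    · simp [Pi.mulSingle_eq_of_ne hk]⟩
  set u := α.symm (Pi.mulSingle j r) with hu
  have e : (Pi.mulSingle i (u i * t⁻¹ * (u i)⁻¹) : Fin m → T) =
      u * Pi.mulSingle i t⁻¹ * u⁻¹ := by
    funext k
    by_cases hk : k = i
    · subst hk; simp
    · simp [Pi.mulSingle_eq_of_ne hk]
  have e2 : β (t * (u i * t⁻¹ * (u i)⁻¹)) =
      β t * ((Pi.mulSingle j r : Fin m → T) * (β t)⁻¹ * (Pi.mulSingle j r)⁻¹) := by
    have h0 : α u = Pi.mulSingle j r := α.apply_symm_apply _
    have h1 : β (u i * t⁻¹ * (u i)⁻¹) = α u * β t⁻¹ * (α u)⁻¹ := by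
      show α (Pi.mulSingle i (u i * t⁻¹ * (u i)⁻¹)) = α u * α (Pi.mulSingle i t⁻¹) * (α u)⁻¹
      rw [e, map_mul, map_mul, map_inv]
    rw [map_mul, h1, h0, map_inv]
  have hc : β (t * (u i * t⁻¹ * (u i)⁻¹)) ∈ J := by
    refine ⟨β t j * (r * (β t j)⁻¹ * r⁻¹), ?_⟩
    rw [e2]
    funext k
    by_cases hk : k = j
    · subst hk; simp
    · simp [Pi.mulSingle_eq_of_ne hk]
  have hne : β (t * (u i * t⁻¹ * (u i)⁻¹)) ≠ 1 := by
    intro h
    have h1 := congrFun (e2 ▸ h) j
    simp only [Pi.mul_apply, Pi.inv_apply, Pi.mulSingle_eq_same, Pi.one_apply] at h1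
    rw [← mul_assoc, ← mul_assoc, mul_inv_eq_one, mul_inv_eq_iff_eq_mul] at h1
    exact hr h1
  rcases IsSimpleGroup.eq_bot_or_eq_top_of_normal (J.comap β) inferInstance with h | h
  · refine absurd ?_ hne
    have h' : t * (u i * t⁻¹ * (u i)⁻¹) ∈ J.comap β := hc
    rw [h, Subgroup.mem_bot] at h'
    rw [h', map_one]
  · refine ⟨j, fun t k hk => ?_⟩
    obtain ⟨a, ha⟩ : β t ∈ J := (h ▸ Subgroup.mem_top t : t ∈ J.comap β)
    rw [← hβ, ← ha]
    exact Pi.mulSingle_eq_of_ne (M := fun _ => T) hk a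

end Power

section Main

variable {G : Type u} [Group G] [Finite G] {p : ℕ} [hp : Fact p.Prime]

theorem sylow_inf_ne_bot (hcore : pPrimeCore p G = ⊥) (P : Sylow p G) {N : Subgroup G}
    (hN : N.Normal) (hN1 : N ≠ ⊥) : N ⊓ (P : Subgroup G) ≠ ⊥ := by
  intro h
  refine hN1 (le_bot_iff.mp (hcore ▸ Core.le_pPrimeCore hN ?_))
  rw [Nat.coprime_comm, hp.out.coprime_iff_not_dvd]
  intro hd
  obtain ⟨x, hx⟩ := exists_prime_orderOf_dvd_card' p hd
  have hxp : IsPGroup p (Subgroup.zpowers (x : G)) :=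
    IsPGroup.of_card (n := 1) (by rw [Nat.card_zpowers, Subgroup.orderOf_coe, hx, pow_one])
  obtain ⟨Q, hQ⟩ := hxp.exists_le_sylow
  obtain ⟨g, hg⟩ := MulAction.exists_smul_eq G Q P
  have hmem : g * (x : G) * g⁻¹ ∈ N ⊓ (P : Subgroup G) := by
    refine ⟨hN.conj_mem _ x.2 g, ?_⟩
    rw [← hg]
    exact ⟨x, hQ (Subgroup.mem_zpowers _), rfl⟩
  rw [h, Subgroup.mem_bot, conj_eq_one_iff] at hmem
  rw [show x = 1 from Subtype.ext hmem, orderOf_one] at hx
  exact hp.out.ne_one hx.symm

/-- The coordinates of the Sylow subgroup of a power. -/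
theorem single_mem_sylow {T : Type} [Group T] [Finite T] {m : ℕ} (Q : Sylow p (Fin m → T))
    {q : Fin m → T} (hq : q ∈ (Q : Subgroup (Fin m → T))) (i : Fin m) :
    Pi.mulSingle i (q i) ∈ (Q : Subgroup (Fin m → T)) := by
  classical
  let W : Subgroup (Fin m → T) := Subgroup.pi Set.univ fun j =>
    (Q : Subgroup (Fin m → T)).map (Pi.evalMonoidHom (fun _ => T) j)
  have hW : IsPGroup p W := by
    intro w
    have h : ∀ j, ∃ k : ℕ, (w : Fin m → T) j ^ p ^ k = 1 := fun j => by
      obtain ⟨v, hv, hvw⟩ := w.2 j (Set.mem_univ j)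
      obtain ⟨k, hk⟩ := Q.2 ⟨v, hv⟩
      refine ⟨k, ?_⟩
      have := congrArg (fun x : (Q : Subgroup (Fin m → T)) => (x : Fin m → T) j) hk
      rw [← hvw]
      simpa using this
    choose k hk using h
    refine ⟨∑ j, k j, Subtype.ext (funext fun j => ?_)⟩
    have hd : p ^ k j ∣ p ^ ∑ l, k l :=
      pow_dvd_pow p (Finset.single_le_sum (fun l _ => Nat.zero_le (k l)) (Finset.mem_univ j))
    obtain ⟨c, hc⟩ := hd
    simp [hc, pow_mul, hk]
  have hQW : (Q : Subgroup (Fin m → T)) ≤ W := fun v hv j _ => ⟨v, hv, rfl⟩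
  rw [← Q.is_maximal' hW hQW]
  intro j _
  by_cases hj : j = i
  · subst hj; exact ⟨q, hq, by simp⟩
  · exact ⟨1, one_mem _, by simp [Pi.mulSingle_eq_of_ne hj]⟩

/-- A coordinate of a Sylow subgroup of a power is non-trivial. -/
theorem exists_coord_ne {T : Type} [Group T] [Finite T] {m : ℕ} (Q : Sylow p (Fin m → T))
    (hd : p ∣ Nat.card T) (i : Fin m) : ∃ q ∈ (Q : Subgroup (Fin m → T)), q i ≠ 1 := by
  classical
  obtain ⟨t, ht⟩ := exists_prime_orderOf_dvd_card' p hd
  have hxp : IsPGroup p (Subgroup.zpowers (Pi.mulSingle i t : Fin m → T)) :=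
    IsPGroup.of_card (n := 1) (by
      rw [Nat.card_zpowers, pow_one]
      exact (orderOf_injective (MonoidHom.mulSingle (fun _ : Fin m => T) i)
        (Pi.mulSingle_injective (M := fun _ : Fin m => T) i) t).trans ht)
  obtain ⟨R, hR⟩ := hxp.exists_le_sylow
  obtain ⟨g, hg⟩ := MulAction.exists_smul_eq (Fin m → T) R Q
  refine ⟨g * Pi.mulSingle i t * g⁻¹, ?_, ?_⟩
  · rw [← hg]
    exact ⟨_, hR (Subgroup.mem_zpowers _), rfl⟩
  · simp only [Pi.mul_apply, Pi.inv_apply, Pi.mulSingle_eq_same, ne_eq, conj_eq_one_iff]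
    rintro rfl
    rw [orderOf_one] at ht
    exact hp.out.ne_one ht.symm

theorem sup_zpowers_eq {M P : Subgroup G} (hMP : M ≤ P) (h : M.relIndex P = p) {z : G}
    (hz : z ∈ P) (hzM : z ∉ M) : M ⊔ Subgroup.zpowers z = P := by
  refine le_antisymm (sup_le hMP (Subgroup.zpowers_le.mpr hz)) (Subgroup.relIndex_eq_one.mp ?_)
  have hmul := Subgroup.relIndex_mul_relIndex M (M ⊔ Subgroup.zpowers z) P le_sup_left
    (sup_le hMP (Subgroup.zpowers_le.mpr hz))
  rw [h] at hmul
  rcases (Nat.dvd_prime hp.out).mp ⟨_, hmul.symm⟩ with e | e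
  · exact absurd (Subgroup.relIndex_eq_one.mp e (Subgroup.mem_sup_right (Subgroup.mem_zpowers z))) hzM
  · exact (Nat.mul_eq_left hp.out.ne_zero).mp (e ▸ hmul)

/-- The derived group inside a subgroup `L` normalised by generators. -/
theorem commutator_le_of {P B L : Subgroup G} {z : G} (hgen : B ⊔ Subgroup.zpowers z = P)
    (hn : (L.subgroupOf P).Normal) (hB : ∀ a ∈ B, ∀ b ∈ B, ⁅a, b⁆ ∈ L)
    (hz : ∀ b ∈ B, ⁅z, b⁆ ∈ L) : ⁅P, P⁆ ≤ L := by
  haveI := hn
  have hBP : B ≤ P := hgen ▸ le_sup_left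
  have hzP : z ∈ P := hgen ▸ Subgroup.mem_sup_right (Subgroup.mem_zpowers z)
  have h := comm_le_of (L.subgroupOf P) (B.subgroupOf P) ⟨z, hzP⟩ (by
    apply Subgroup.map_injective P.subtype_injective
    rw [Subgroup.map_sup, Subgroup.map_subgroupOf_eq_of_le hBP, MonoidHom.map_zpowers,
      ← MonoidHom.range_eq_map, Subgroup.range_subtype]
    exact hgen) (fun a ha b hb => hB a ha b hb) fun b hb => hz b hb
  rw [← Subgroup.map_subtype_commutator]
  rintro _ ⟨x, hx, rfl⟩
  exact h hx

/-- A surjection to an abelian group killing a subgroup bounds the order. -/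
theorem card_le_of_ker {B A : Type*} [Group B] [Finite B] [Group A] (f : B →* A)
    (hf : Function.Surjective f) (L : Subgroup B) (hL : L ≤ f.ker) : Nat.card A ≤ L.index := by
  rw [← Nat.card_congr Subgroup.topEquiv.toEquiv, ← MonoidHom.range_eq_top.mpr hf,
    ← Subgroup.index_ker]
  exact Nat.le_of_dvd (Nat.pos_of_ne_zero Subgroup.index_ne_zero_of_finite)
    (Subgroup.index_dvd_of_le hL)

/-- **The structure**: the Sylow subgroup has an abelian subgroup of index `p` cut out by a
normal subgroup. -/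
theorem exists_normal (hcore : pPrimeCore p G = ⊥) (P : Sylow p G) [Nontrivial G]
    (hcore' : (⁅(P : Subgroup G), (P : Subgroup G)⁆).normalCore = ⊥)
    (hnas : ¬ ∃ S : Subgroup G, S.Normal ∧ IsSimpleGroup S ∧ ¬ IsMulCommutative S ∧
      Subgroup.centralizer (S : Set G) = ⊥)
    (hidx : (⁅(P : Subgroup G), (P : Subgroup G)⁆).relIndex (P : Subgroup G) = p ^ 2)
    (hne : ⁅(P : Subgroup G), (P : Subgroup G)⁆ ≠ ⊥) :
    ∃ N : Subgroup G, N.Normal ∧ (N ⊓ (P : Subgroup G)).relIndex (P : Subgroup G) = p ∧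
      ⁅(P : Subgroup G), (P : Subgroup G)⁆ ≤ N ∧
      (⁅(P : Subgroup G), (P : Subgroup G)⁆).relIndex (N ⊓ (P : Subgroup G)) = p ∧
      ∀ a ∈ N ⊓ (P : Subgroup G), ∀ b ∈ N ⊓ (P : Subgroup G), a * b = b * a := by
  classical
  set P₀ := (P : Subgroup G) with hP₀
  set D := ⁅P₀, P₀⁆ with hD
  have hPp : IsPGroup p P₀ := P.2
  haveI : Group.IsNilpotent P₀ := hPp.isNilpotent
  have hDP : D ≤ P₀ := Subgroup.commutator_le_self P₀
  have hDmap : (commutator P₀).map P₀.subtype = D := Subgroup.map_subtype_commutator P₀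
  have hfr : (commutator P₀) ≤ frattini P₀ := Core.commutator_le_frattini_of_isNilpotent
  obtain ⟨N, hNn, hN1, hmin⟩ := Core.exists_isMinNormal (G := G)
  haveI := hNn
  refine ⟨N, hNn, ?_⟩
  set B := N ⊓ P₀ with hB
  have hBP : B ≤ P₀ := inf_le_right
  have hBD : ¬ B ≤ D := by
    intro h
    have hcompl := S0081.result P N (h.trans (hDmap.symm.trans_le (Subgroup.map_mono hfr)))
    obtain ⟨Q, K, hK, hKQ⟩ := hcompl
    have hK1 : K = ⊥ := le_bot_iff.mp (Core.pPrimeCore_eq_bot_of_normal N hcore ▸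
      Core.le_pPrimeCore hK (by
        rw [← hKQ.index_eq_card, Nat.coprime_comm, hp.out.coprime_iff_not_dvd]
        exact Q.not_dvd_index))
    have hQt : (Q : Subgroup N) = ⊤ := by
      have h1 := hKQ.card_mul
      rw [hK1, Subgroup.card_bot, one_mul] at h1
      exact Subgroup.eq_top_of_card_eq _ h1
    have hNp : IsPGroup p N := fun x => by
      obtain ⟨k, hk⟩ := Q.2 ⟨x, hQt ▸ Subgroup.mem_top x⟩
      exact ⟨k, by simpa using congrArg Subtype.val hk⟩
    have hNP : N ≤ P₀ := by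
      obtain ⟨R, hR⟩ := hNp.exists_le_sylow
      obtain ⟨g, hg⟩ := MulAction.exists_smul_eq G R P
      intro x hx
      rw [hP₀, ← hg]
      refine ⟨g⁻¹ * x * g, hR (by simpa using hNn.conj_mem x hx g⁻¹), ?_⟩
      show g * (g⁻¹ * x * g) * g⁻¹ = x
      group
    refine hN1 (le_bot_iff.mp (hcore' ▸ Subgroup.normal_le_normalCore.mpr ?_))
    exact (le_inf le_rfl hNP).trans h
  have hnc : ∀ h : ∀ a ∈ P₀, ∀ b ∈ P₀, a * b = b * a, False := fun h => hne (by
    rw [hD, Subgroup.commutator_eq_bot_iff_le_centralizer]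
    exact fun a ha b hb => h b hb a ha)
  -- the join with the derived group
  have hMP : B ⊔ D ≤ P₀ := sup_le hBP hDP
  have hmul := Subgroup.relIndex_mul_relIndex D (B ⊔ D) P₀ le_sup_right hMP
  rw [hidx] at hmul
  obtain ⟨k, hk2, hk⟩ := (Nat.dvd_prime_pow hp.out).mp
    (⟨_, hmul.symm.trans (mul_comm _ _)⟩ : (B ⊔ D).relIndex P₀ ∣ p ^ 2)
  have hk' : k ≠ 2 := fun e => hBD (by
    rw [hk, e] at hmul
    exact le_sup_left.trans (Subgroup.relIndex_eq_one.mp
      ((Nat.mul_eq_right (pow_pos hp.out.pos 2).ne').mp hmul)))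
  -- generation by an element outside
  have hgen : ∀ z ∈ P₀, B ⊔ D ⊔ Subgroup.zpowers z = P₀ → B ⊔ Subgroup.zpowers z = P₀ := by
    intro z hz h
    have hle : B ⊔ Subgroup.zpowers z ≤ P₀ := sup_le hBP (Subgroup.zpowers_le.mpr hz)
    refine le_antisymm hle ?_
    have h1 : (B ⊔ Subgroup.zpowers z).subgroupOf P₀ ⊔ frattini P₀ = ⊤ := by
      refine top_le_iff.mp ?_
      calc (⊤ : Subgroup P₀) = (B ⊔ Subgroup.zpowers z ⊔ D).subgroupOf P₀ := by
            rw [sup_right_comm, h, Subgroup.subgroupOf_self]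
        _ ≤ _ := by
            rw [Subgroup.subgroupOf_sup hle hDP]
            refine sup_le_sup_left (le_trans ?_ hfr) _
            rw [← hDmap, Subgroup.subgroupOf,
              Subgroup.comap_map_eq_self_of_injective P₀.subtype_injective]
    exact Subgroup.subgroupOf_eq_top.mp (frattini_nongenerating h1)
  -- the power of a simple group
  obtain ⟨T, _, m, hT, hm, ⟨e⟩⟩ := S0721.result N hN1 hmin
  haveI : Finite T := Finite.of_injective
    (fun t : T => e.symm (Function.const (Fin m) t))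
    (e.symm.injective.comp fun a b h => congrFun h ⟨0, hm⟩)
  -- the two cases for the join
  have hcases : (k = 0 ∧ B = P₀) ∨ ∃ z ∈ P₀, z ∉ N ∧ B ⊔ Subgroup.zpowers z = P₀ ∧
      B.relIndex P₀ = p ∧ D ≤ B ∧ D.relIndex B = p := by
    rcases Nat.lt_or_ge k 1 with hk0 | hk1
    · obtain rfl : k = 0 := by omega
      refine Or.inl ⟨rfl, ?_⟩
      have h1 : B ⊔ D = P₀ := le_antisymm hMP (Subgroup.relIndex_eq_one.mp (by simpa using hk))
      have h2 := hgen 1 (one_mem _) (by rw [Subgroup.zpowers_one_eq_bot, sup_bot_eq, h1])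
      rwa [Subgroup.zpowers_one_eq_bot, sup_bot_eq] at h2
    · obtain rfl : k = 1 := by omega
      rw [pow_one] at hk
      obtain ⟨z, hz, hzM⟩ := SetLike.exists_of_lt (lt_of_le_of_ne hMP fun e : B ⊔ D = P₀ => by
        rw [e, Subgroup.relIndex_self] at hk
        exact hp.out.ne_one hk.symm)
      have hg := hgen z hz (sup_zpowers_eq hMP hk hz hzM)
      have hDN : D ≤ N := commutator_le_of hg inferInstance
        (fun a ha b _ => Subgroup.commutator_le_left N ⊤
          (Subgroup.commutator_mem_commutator ha.1 (Subgroup.mem_top b)))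
        fun b hb => Subgroup.commutator_le_right ⊤ N
          (Subgroup.commutator_mem_commutator (Subgroup.mem_top z) hb.1)
      have hDB : D ≤ B := le_inf hDN hDP
      have e : B ⊔ D = B := sup_eq_left.mpr hDB
      rw [e] at hk hmul hzM
      rw [hk, sq] at hmul
      exact Or.inr ⟨z, hz, fun h => hzM ⟨h, hz⟩, hg, hk, hDB,
        Nat.eq_of_mul_eq_mul_right hp.out.pos hmul⟩
  suffices hcomm : ∀ a ∈ B, ∀ b ∈ B, a * b = b * a by
    rcases hcases with ⟨-, h⟩ | ⟨z, -, -, -, hrel, hDB, hDrel⟩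
    · exact (hnc (h ▸ hcomm)).elim
    · exact ⟨hrel, hDB.trans inf_le_left, hDrel, hcomm⟩
  by_cases hNc : IsMulCommutative N
  · exact fun a ha b hb => congrArg Subtype.val (mul_comm' (⟨a, ha.1⟩ : N) ⟨b, hb.1⟩)
  have hT' : ¬ IsMulCommutative T := fun h => hNc
    ⟨⟨fun a b => e.injective (funext fun i => by
      rw [map_mul, map_mul]; exact mul_comm' _ _)⟩⟩
  rcases Nat.lt_or_ge m 2 with hm1 | hm2
  · -- a simple minimal normal subgroup
    obtain rfl : m = 1 := by omega
    haveI : Nontrivial N := (Subgroup.nontrivial_iff_ne_bot N).mpr hN1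
    let e₁ : T ≃* N := (MulEquiv.funUnique (Fin 1) T).symm.trans e.symm
    have hNs : IsSimpleGroup N :=
      IsSimpleGroup.isSimpleGroup_of_surjective e₁.toMonoidHom e₁.surjective
    have hC : Subgroup.centralizer (N : Set G) ≠ ⊥ := fun h => hnas ⟨N, hNn, hNs, hNc, h⟩
    obtain ⟨M, hM, hMC⟩ := Core.exists_isMinNormal_le
      (show (Subgroup.centralizer (N : Set G)).Normal from inferInstance) hC
    have hMN : ∀ x ∈ M, x ∈ N → x = 1 := by
      intro x hxM hxN
      have hc : (⟨x, hxN⟩ : N) ∈ Subgroup.center N := Subgroup.mem_center_iff.mpr fun y =>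
        Subtype.ext (hMC hxM y y.2)
      rcases hNs.eq_bot_or_eq_top_of_normal (Subgroup.center N) inferInstance with h | h
      · rw [h, Subgroup.mem_bot] at hc
        exact congrArg Subtype.val hc
      · exact absurd ⟨⟨fun a b => Subgroup.mem_center_iff.mp (h ▸ Subgroup.mem_top b) a⟩⟩ hNc
    obtain ⟨x, hxE, hx1⟩ := (Subgroup.bot_or_exists_ne_one (M ⊓ P₀)).resolve_left
      (sylow_inf_ne_bot hcore P hM.1 hM.2.1)
    have hxN : x ∉ N := fun h => hx1 (hMN x hxE.1 h)
    rcases hcases with ⟨-, h⟩ | ⟨z, -, -, -, hrel, hDB, hDrel⟩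
    · exact absurd (h.ge hxE.2).1 hxN
    intro a ha b hb
    refine comm_of_relIndex (hPp.to_le hBP) ?_ ha hb
    have hg : B ⊔ Subgroup.zpowers x = P₀ :=
      sup_zpowers_eq hBP hrel hxE.2 fun h => hxN h.1
    have hnB : (⁅B, B⁆.subgroupOf P₀).Normal := by
      haveI hBn : (B.subgroupOf P₀).Normal := ⟨fun w hw g =>
        ⟨hNn.conj_mem _ hw.1 g, P₀.mul_mem (P₀.mul_mem g.2 hw.2) (P₀.inv_mem g.2)⟩⟩
      have e : ⁅B, B⁆.subgroupOf P₀ = ⁅B.subgroupOf P₀, B.subgroupOf P₀⁆ := by
        apply Subgroup.map_injective P₀.subtype_injective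
        rw [Subgroup.map_commutator, Subgroup.map_subgroupOf_eq_of_le hBP,
          Subgroup.map_subgroupOf_eq_of_le ((Subgroup.commutator_le_self B).trans hBP)]
      rw [e]
      infer_instance
    have hDBB : D ≤ ⁅B, B⁆ := commutator_le_of hg hnB
      (fun a ha b hb => Subgroup.commutator_mem_commutator ha hb) fun b hb => by
        rw [commutatorElement_eq_one_iff_mul_comm.mpr (hMC hxE.1 b hb.1).symm]
        exact one_mem _
    calc ⁅B, B⁆.relIndex B ≤ D.relIndex B :=
          Nat.le_of_dvd (hDrel ▸ hp.out.pos) (Subgroup.relIndex_dvd_of_le_left B hDBB)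
      _ = p := hDrel
  -- the coordinates
  have hQi : ¬ p ∣ (P₀.subgroupOf N).index := by
    intro hd
    have h1 := Subgroup.relIndex_mul_relIndex B P₀ (P₀ ⊔ N) hBP le_sup_left
    have h2 := Subgroup.relIndex_mul_relIndex B N (P₀ ⊔ N) inf_le_left le_sup_right
    rw [show B.relIndex P₀ = N.relIndex P₀ from Subgroup.inf_relIndex_right N P₀] at h1
    rw [Subgroup.relIndex_sup_right] at h2
    have h3 : B.relIndex N = P₀.relIndex (P₀ ⊔ N) := by
      refine Nat.eq_of_mul_eq_mul_right (m := N.relIndex P₀)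
        (Nat.pos_of_ne_zero (Subgroup.index_ne_zero_of_finite (H := Subgroup.subgroupOf _ _))) ?_
      rw [h2, ← h1, mul_comm]
    have h4 : (P₀.subgroupOf N).index = B.relIndex N := by
      rw [hB, inf_comm]; exact (Subgroup.inf_relIndex_right P₀ N).symm
    rw [h4, h3] at hd
    exact P.not_dvd_index (hd.trans (Subgroup.relIndex_dvd_index_of_le le_sup_left))
  have hQp : IsPGroup p (P₀.subgroupOf N) := hPp.comap_of_injective N.subtype N.subtype_injective
  let Q : Sylow p (Fin m → T) :=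
    (hQp.toSylow hQi).mapSurjective (f := e.toMonoidHom) e.surjective
  have hQm : ∀ {x : Fin m → T}, x ∈ (Q : Subgroup (Fin m → T)) ↔ (e.symm x : G) ∈ B := by
    intro x
    constructor
    · rintro ⟨y, hy, rfl⟩
      show (e.symm (e y) : G) ∈ B
      rw [MulEquiv.symm_apply_apply]
      exact ⟨y.2, hy⟩
    · exact fun h => ⟨e.symm x, h.2, e.apply_symm_apply x⟩
  have hpT : p ∣ Nat.card T := by
    have h1 : p ∣ Nat.card N := by
      obtain ⟨x, hx, hx1⟩ := (Subgroup.bot_or_exists_ne_one B).resolve_left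
        (sylow_inf_ne_bot hcore P hNn hN1)
      obtain ⟨n, hn⟩ := IsPGroup.iff_card.mp (hPp.to_le hBP)
      refine dvd_trans ?_ (Subgroup.card_dvd_of_le (inf_le_left : B ≤ N))
      rw [hn]
      refine dvd_pow_self p fun h0 => hx1 ?_
      rw [h0, pow_zero, Subgroup.card_eq_one] at hn
      exact Subgroup.mem_bot.mp (hn ▸ hx)
    rw [Nat.card_congr e.toEquiv, Nat.card_fun, Nat.card_fin] at h1
    exact hp.out.dvd_of_dvd_pow h1
  let ev : Fin m → B →* T := fun i => (Pi.evalMonoidHom (fun _ => T) i).comp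
    (e.toMonoidHom.comp (Subgroup.inclusion (inf_le_left : B ≤ N)))
  let D' : Fin m → Subgroup T := fun i => (ev i).range
  let cl : ∀ i, B →* Abelianization (D' i) := fun i =>
    Abelianization.of.comp (ev i).rangeRestrict
  have hD'p : ∀ i, IsPGroup p (D' i) := fun i =>
    (hPp.to_le hBP).of_surjective _ (ev i).rangeRestrict_surjective
  -- single coordinates
  have hone : ∀ (i : Fin m) (d : D' i), ∃ b : B, (ev i).rangeRestrict b = d ∧
      ∀ k, k ≠ i → ev k b = 1 := by
    rintro i ⟨_, b, rfl⟩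
    have hb : e ⟨b.1, b.2.1⟩ ∈ (Q : Subgroup (Fin m → T)) := hQm.mpr (by simp)
    have h1 := hQm.mp (single_mem_sylow Q hb i)
    refine ⟨⟨_, h1⟩, Subtype.ext ?_, fun k hk => ?_⟩
    · show e (e.symm (Pi.mulSingle i _)) i = ev i b
      rw [MulEquiv.apply_symm_apply, Pi.mulSingle_eq_same]
      rfl
    · show e (e.symm (Pi.mulSingle i _)) k = 1
      rw [MulEquiv.apply_symm_apply, Pi.mulSingle_eq_of_ne hk]
  have hclsurj : ∀ i x, ∃ b : B, cl i b = x ∧ ∀ k, k ≠ i → ev k b = 1 := by
    intro i x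
    obtain ⟨d, rfl⟩ : ∃ d, Abelianization.of d = x := QuotientGroup.mk_surjective x
    obtain ⟨b, hb, hb'⟩ := hone i d
    exact ⟨b, congrArg _ hb, hb'⟩
  have hcl1 : ∀ {i : Fin m} {b : B}, ev i b = 1 → cl i b = 1 := fun {i b} h => by
    show Abelianization.of ((ev i).rangeRestrict b) = 1
    rw [show (ev i).rangeRestrict b = 1 from Subtype.ext h, map_one]
  suffices hab : ∀ i, Nat.card (Abelianization (D' i)) ≤ p by
    intro a ha b hb
    have h : e (⟨a, ha.1⟩ * ⟨b, hb.1⟩) = e (⟨b, hb.1⟩ * ⟨a, ha.1⟩) := funext fun i => by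
      have := congrArg Subtype.val (comm_of_ab (hD'p i) (hab i)
        ⟨_, ⟨⟨a, ha⟩, rfl⟩⟩ ⟨_, ⟨⟨b, hb⟩, rfl⟩⟩)
      rw [map_mul, map_mul]
      exact this
    exact congrArg Subtype.val (e.injective h)
  intro i
  haveI : Nontrivial (Fin m) := Fin.nontrivial_iff_two_le.mpr hm2
  obtain ⟨j, hji⟩ := exists_ne i
  rcases hcases with ⟨-, hBeq⟩ | ⟨z, hz, hzN, hg, hrel, hDB, hDrel⟩
  · -- the Sylow subgroup lies in the minimal normal subgroup
    let φ := (cl i).prod (cl j)
    have hφ : Function.Surjective φ := fun x => by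
      obtain ⟨b, hb, hb'⟩ := hclsurj i x.1
      obtain ⟨c, hc, hc'⟩ := hclsurj j x.2
      refine ⟨b * c, Prod.ext ?_ ?_⟩
      · show cl i (b * c) = x.1
        rw [map_mul, hcl1 (hc' i hji.symm), mul_one, hb]
      · show cl j (b * c) = x.2
        rw [map_mul, hcl1 (hb' j hji), one_mul, hc]
    have hL : D.subgroupOf B ≤ φ.ker := by
      have h : D.subgroupOf B ≤ commutator B := by
        intro x hx
        have hx' : (x : G) ∈ (commutator B).map B.subtype := by
          have hBB : ⁅B, B⁆ = D := by rw [hBeq]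
          rw [Subgroup.map_subtype_commutator, hBB]; exact hx
        obtain ⟨y, hy, hyx⟩ := hx'
        rwa [← B.subtype_injective hyx]
      exact h.trans (Abelianization.commutator_subset_ker φ)
    have h2 := card_le_of_ker φ hφ _ hL
    rw [Nat.card_prod, show (D.subgroupOf B).index = D.relIndex B from rfl,
      show D.relIndex B = p ^ 2 by rw [hBeq]; exact hidx] at h2
    have hj : p ≤ Nat.card (Abelianization (D' j)) := by
      obtain ⟨q, hq, hq1⟩ := exists_coord_ne Q hpT j
      haveI : Nontrivial (D' j) := (Subgroup.nontrivial_iff_ne_bot _).mpr fun h => hq1 (by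
        have : q j ∈ D' j := ⟨⟨_, hQm.mp hq⟩, by
          show e (e.symm q) j = q j
          rw [e.apply_symm_apply]⟩
        rwa [h, Subgroup.mem_bot] at this)
      haveI := (hD'p j).isNilpotent
      obtain ⟨n, hn⟩ := (hD'p j).index (commutator (D' j))
      change p ≤ (commutator (D' j)).index
      rw [hn]
      refine Nat.le_of_dvd (pow_pos hp.out.pos n) (dvd_pow_self p fun h0 => ?_)
      rw [h0, pow_zero, Subgroup.index_eq_one] at hn
      exact (Group.IsSolvable.commutator_lt_top_of_nontrivial (G := D' j)).ne hn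
    rw [pow_two] at h2
    exact Nat.le_of_mul_le_mul_right ((Nat.mul_le_mul_left _ hj).trans h2) hp.out.pos
  -- the action on the coordinates
  let Al : G →* MulAut (Fin m → T) := (MulAut.congr e).toMonoidHom.comp MulAut.conjNormal
  choose σ hσ using fun g => exists_factor hT' (Al g)
  obtain ⟨t, ht⟩ : ∃ t : T, t ≠ 1 := exists_ne 1
  have huniq : ∀ g a b, (∀ s c, c ≠ b → Al g (Pi.mulSingle a s) c = 1) → σ g a = b := by
    intro g a b h
    by_contra hne
    refine ht (Pi.mulSingle_injective (M := fun _ : Fin m => T) a ?_)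
    rw [Pi.mulSingle_one]
    refine (Al g).injective (funext fun c => ?_)
    rw [map_one, Pi.one_apply]
    by_cases hc : c = b
    · exact hσ g a t c fun h' => hne (h'.symm.trans hc)
    · exact h t c hc
  have hsupp : ∀ g (y : Fin m → T) c, (∀ a, σ g a = c → y a = 1) → Al g y c = 1 := by
    intro g y c hy
    exact Subgroup.pi_mem_of_mulSingle_mem
      (H := ((Pi.evalMonoidHom (fun _ => T) c).comp (Al g).toMonoidHom).ker) y fun a => by
        show Al g (Pi.mulSingle a (y a)) c = 1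
        by_cases h : σ g a = c
        · rw [hy a h, Pi.mulSingle_one, map_one]; rfl
        · exact hσ g a _ c (Ne.symm h)
  have hσm : ∀ g h a, σ (g * h) a = σ g (σ h a) := fun g h a => huniq _ _ _ fun s c hc => by
    rw [map_mul, MulAut.mul_apply]
    refine hsupp g _ c fun d hd => ?_
    exact hσ h a s d fun h' => hc (by rw [← hd, h'])
  have hσN : ∀ g ∈ N, ∀ a, σ g a = a := fun g hg a => huniq _ _ _ fun s c hc => by
    have : Al g (Pi.mulSingle a s) = e ⟨g, hg⟩ * Pi.mulSingle a s * (e ⟨g, hg⟩)⁻¹ := by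
      show e (MulAut.conjNormal g (e.symm (Pi.mulSingle a s))) = _
      rw [show MulAut.conjNormal g (e.symm (Pi.mulSingle a s)) =
        ⟨g, hg⟩ * e.symm (Pi.mulSingle a s) * ⟨g, hg⟩⁻¹ from Subtype.ext rfl, map_mul, map_mul,
        map_inv, e.apply_symm_apply]
    simp [this, Pi.mulSingle_eq_of_ne hc]
  have hBn : ∀ g : P₀, ∀ b : B, (g : G) * b * (g : G)⁻¹ ∈ B := fun g b =>
    ⟨hNn.conj_mem _ b.2.1 g, P₀.mul_mem (P₀.mul_mem g.2 b.2.2) (P₀.inv_mem g.2)⟩
  have hev : ∀ (g : P₀) (b : B) c, ev c ⟨_, hBn g b⟩ = Al g (e ⟨b, b.2.1⟩) c := fun g b c => by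
    show e ⟨(g : G) * b * (g : G)⁻¹, _⟩ c = e (MulAut.conjNormal (g : G) (e.symm (e ⟨b, b.2.1⟩))) c
    rw [e.symm_apply_apply]
    exact congrFun (congrArg e (Subtype.ext rfl)) c
  have hgenP : ∀ S : Subgroup G, B ≤ S → z ∈ S → P₀ ≤ S := fun S hS hzS =>
    hg ▸ sup_le hS (Subgroup.zpowers_le.mpr hzS)
  by_cases hfix : σ z i = i
  · -- an invariant factor
    exfalso
    have hfixP : ∀ g ∈ P₀, σ g i = i := by
      let S : Subgroup G :=
        { carrier := {g | σ g i = i}
          one_mem' := hσN 1 (one_mem N) i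
          mul_mem' := fun {a b} ha hb => by
            show σ (a * b) i = i
            rw [hσm, hb, ha]
          inv_mem' := fun {a} ha => by
            show σ a⁻¹ i = i
            have h := hσm a⁻¹ a i
            rw [inv_mul_cancel, hσN 1 (one_mem N), ha] at h
            exact h.symm }
      exact fun g hg' => hgenP S (fun x hx => hσN x hx.1 i) hfix hg'
    have hback : ∀ g ∈ P₀, ∀ a, σ g a = i → a = i := fun g hg' a ha => by
      have h := hσm g⁻¹ g a
      rwa [inv_mul_cancel, hσN 1 (one_mem N), ha, hfixP _ (inv_mem hg')] at h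
    let inc : B →* P₀ := Subgroup.inclusion hBP
    let X : Subgroup P₀ := ((⨅ c, ⨅ (_ : c ≠ i), (ev c).ker)).map inc
    let Y : Subgroup P₀ := ((ev i).ker).map inc
    haveI : X.Normal := ⟨by
      rintro _ ⟨b, hb, rfl⟩ g
      refine ⟨⟨_, hBn g b⟩, ?_, Subtype.ext rfl⟩
      simp only [SetLike.mem_coe, Subgroup.mem_iInf, MonoidHom.mem_ker] at hb ⊢
      intro c hc
      rw [hev]
      refine hsupp g _ c fun a ha => hb a fun hai => hc ?_
      rw [← ha, hai, hfixP g g.2]⟩
    haveI : Y.Normal := ⟨by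
      rintro _ ⟨b, hb, rfl⟩ g
      refine ⟨⟨_, hBn g b⟩, ?_, Subtype.ext rfl⟩
      simp only [SetLike.mem_coe, MonoidHom.mem_ker] at hb ⊢
      rw [hev]
      exact hsupp g _ i fun a ha => hback g g.2 a ha ▸ hb⟩
    have hsingle : ∀ a, ∃ b : B, ev a b ≠ 1 ∧ ∀ c, c ≠ a → ev c b = 1 := by
      intro a
      obtain ⟨q, hq, hq1⟩ := exists_coord_ne Q hpT a
      obtain ⟨b, hb, hb'⟩ := hone a ⟨ev a ⟨_, hQm.mp hq⟩, _, rfl⟩
      refine ⟨b, fun h => hq1 ?_, hb'⟩
      have h' := congrArg Subtype.val hb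
      change ev a b = e (e.symm q) a at h'
      rwa [h, e.apply_symm_apply, eq_comm] at h'
    have hmapinc : ∀ W : Subgroup B, W.map inc = ⊥ → W = ⊥ := fun W h =>
      (Subgroup.map_eq_bot_iff_of_injective W (Subgroup.inclusion_injective hBP)).mp h
    refine split_contra hPp X Y (B.subgroupOf P₀) ?_ ?_ ?_ ?_ ⟨z, hz⟩ ?_ ?_ ?_
    · intro h
      obtain ⟨b, hb, hb'⟩ := hsingle i
      have hmem : b ∈ ⨅ c, ⨅ (_ : c ≠ i), (ev c).ker := by
        simp only [Subgroup.mem_iInf, MonoidHom.mem_ker]; exact hb'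
      rw [hmapinc _ h, Subgroup.mem_bot] at hmem
      exact hb (by rw [hmem, map_one])
    · intro h
      obtain ⟨b, hb, hb'⟩ := hsingle j
      have hmem : b ∈ (ev i).ker := hb' i hji.symm
      rw [hmapinc _ h, Subgroup.mem_bot] at hmem
      exact hb (by rw [hmem, map_one])
    · rw [eq_bot_iff]
      rintro _ ⟨⟨b, hb, rfl⟩, c, hc, hcb⟩
      obtain rfl := Subgroup.inclusion_injective hBP hcb
      simp only [SetLike.mem_coe, Subgroup.mem_iInf, MonoidHom.mem_ker] at hb hc
      have : e ⟨c, c.2.1⟩ = 1 := funext fun a => by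
        by_cases ha : a = i
        · subst ha; exact hc
        · exact hb a ha
      rw [Subgroup.mem_bot]
      have h' := congrArg Subtype.val ((map_eq_one_iff e e.injective).mp this)
      exact Subtype.ext h'
    · refine le_antisymm (fun x hx => ?_) (sup_le ?_ ?_)
      · obtain ⟨b, hb, hb'⟩ := hone i ((ev i).rangeRestrict ⟨x, hx⟩)
        have hmem : inc b ∈ X := ⟨b, by
          simp only [SetLike.mem_coe, Subgroup.mem_iInf, MonoidHom.mem_ker]; exact hb', rfl⟩
        have hmem' : inc (b⁻¹ * ⟨x, hx⟩) ∈ Y := ⟨_, by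
          rw [SetLike.mem_coe, MonoidHom.mem_ker, map_mul, map_inv,
            show ev i b = ev i ⟨x, hx⟩ from congrArg Subtype.val hb, inv_mul_cancel], rfl⟩
        have := Subgroup.mul_mem_sup hmem hmem'
        rw [← map_mul, mul_inv_cancel_left] at this
        exact this
      · rintro _ ⟨b, -, rfl⟩; exact b.2
      · rintro _ ⟨b, -, rfl⟩; exact b.2
    · apply Subgroup.map_injective P₀.subtype_injective
      rw [Subgroup.map_sup, Subgroup.map_subgroupOf_eq_of_le hBP, MonoidHom.map_zpowers,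
        ← MonoidHom.range_eq_map, Subgroup.range_subtype]
      exact hg
    · exact fun x hx => hDB (hDmap ▸ ⟨x, hx, rfl⟩)
    · rw [← Subgroup.relIndex_map_map_of_injective _ _ P₀.subtype_injective, hDmap,
        Subgroup.map_subgroupOf_eq_of_le hBP, hDrel]
  -- a factor moved
  have hzp : z ^ p ∈ N := by
    haveI : (N.subgroupOf P₀).Normal := inferInstance
    have h := (N.subgroupOf P₀).pow_index_mem ⟨z, hz⟩
    rwa [show (N.subgroupOf P₀).index = p by
      rw [← hrel, hB, Subgroup.inf_relIndex_right]; rfl] at h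
  have hiter : ∀ n, (σ z)^[n] i = σ (z ^ n) i := fun n => by
    induction n with
    | zero => rw [pow_zero, hσN 1 (one_mem N)]; rfl
    | succ n ih => rw [Function.iterate_succ_apply', ih, pow_succ', hσm]
  have hper : Function.minimalPeriod (σ z) i = p := by
    have h : Function.IsPeriodicPt (σ z) p i := by
      show (σ z)^[p] i = i
      rw [hiter, hσN _ hzp]
    rcases (Nat.dvd_prime hp.out).mp h.minimalPeriod_dvd with h1 | h1
    · exact absurd (Function.minimalPeriod_eq_one_iff_isFixedPt.mp h1) hfix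
    · exact h1
  let zP : P₀ := ⟨z, hz⟩
  let cj : P₀ → (B →* B) := fun g =>
    { toFun := fun b => ⟨_, hBn g b⟩
      map_one' := Subtype.ext (by simp)
      map_mul' := fun a b => Subtype.ext (by simp [mul_assoc]) }
  let φ : B →* Abelianization (D' i) := ∏ n ∈ Finset.range p, (cl i).comp (cj (zP ^ n))
  have hφ : ∀ b, φ b = ∏ n ∈ Finset.range p, cl i (cj (zP ^ n) b) := fun b => by
    simp [φ]
  have hcjB : ∀ (w : B) b, cl i (w * b * w⁻¹) = cl i b := fun w b => by
    rw [map_mul, map_mul, map_inv, mul_comm (cl i w), mul_inv_cancel_right]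
  have hcjmul : ∀ g h b, cj (g * h) b = cj g (cj h b) := fun g h b => Subtype.ext (by
    show ((g * h : P₀) : G) * b * ((g * h : P₀) : G)⁻¹ =
      (g : G) * ((h : G) * b * (h : G)⁻¹) * (g : G)⁻¹
    simp [mul_assoc])
  have hzinv : ∀ b, φ (cj zP b) = φ b := fun b => by
    rw [hφ, hφ]
    let F : ℕ → Abelianization (D' i) := fun n => cl i (cj (zP ^ n) b)
    have hlast : F p = F 0 := by
      show cl i (cj (zP ^ p) b) = cl i (cj (zP ^ 0) b)
      rw [show cj (zP ^ p) b = ⟨z ^ p, hzp, pow_mem hz p⟩ * b * ⟨z ^ p, hzp, pow_mem hz p⟩⁻¹ from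
        Subtype.ext (by simp [cj, zP]), hcjB,
        show cj (zP ^ 0) b = b from Subtype.ext (by simp [cj])]
    calc ∏ n ∈ Finset.range p, cl i (cj (zP ^ n) (cj zP b))
        = ∏ n ∈ Finset.range p, F (n + 1) := Finset.prod_congr rfl fun n _ => by
          show _ = cl i (cj (zP ^ (n + 1)) b)
          rw [pow_succ, hcjmul]
      _ = _ := by
          have h1 := Finset.prod_range_succ' F p
          rw [Finset.prod_range_succ, hlast] at h1
          exact (mul_right_cancel h1).symm
  have hinv : ∀ g : P₀, ∀ b, φ (cj g b) = φ b := by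
    have hsup : (⊤ : Subgroup P₀) = B.subgroupOf P₀ ⊔ Subgroup.zpowers zP := by
      apply Subgroup.map_injective P₀.subtype_injective
      rw [Subgroup.map_sup, Subgroup.map_subgroupOf_eq_of_le hBP, MonoidHom.map_zpowers,
        ← MonoidHom.range_eq_map, Subgroup.range_subtype]
      exact hg.symm
    let S : Subgroup P₀ :=
      { carrier := {g | ∀ b, φ (cj g b) = φ b}
        one_mem' := fun b => congrArg φ (Subtype.ext (by simp [cj]))
        mul_mem' := fun {g h} hg' hh b => by rw [hcjmul, hg', hh]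
        inv_mem' := fun {g} hg' b => by
          have h1 := hg' (cj g⁻¹ b)
          rw [← hcjmul, mul_inv_cancel] at h1
          rw [← h1]
          exact congrArg φ (Subtype.ext (by simp [cj])) }
    have hle : B.subgroupOf P₀ ⊔ Subgroup.zpowers zP ≤ S := by
      refine sup_le (fun w hw b => ?_) (Subgroup.zpowers_le.mpr hzinv)
      rw [show cj w b = ⟨w, hw⟩ * b * ⟨w, hw⟩⁻¹ from Subtype.ext (by simp [cj]), map_mul, map_mul,
        map_inv, mul_comm (φ ⟨w, hw⟩), mul_inv_cancel_right]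
    exact fun g => hle (hsup ▸ Subgroup.mem_top g)
  have hsurj : Function.Surjective φ := fun x => by
    obtain ⟨b, hb, hb'⟩ := hclsurj i x
    refine ⟨b, ?_⟩
    rw [hφ, Finset.prod_eq_single 0]
    · rw [show cj (zP ^ 0) b = b from Subtype.ext (by simp [cj]), hb]
    · intro n hn hn0
      refine hcl1 ?_
      rw [show cj (zP ^ n) b = ⟨_, hBn (zP ^ n) b⟩ from rfl, hev]
      refine hsupp _ _ i fun a ha => hb' a fun hai => ?_
      rw [hai, SubmonoidClass.coe_pow, ← hiter] at ha
      have hlt : n < Function.minimalPeriod (σ z) i := hper.symm ▸ Finset.mem_range.mp hn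
      exact hn0 (Function.IsPeriodicPt.eq_zero_of_lt_minimalPeriod ha hlt)
    · intro h; exact absurd (Finset.mem_range.mpr hp.out.pos) h
  have hker : D ≤ φ.ker.map B.subtype := by
    refine commutator_le_of hg ⟨fun w hw g => ?_⟩ (fun a ha b hb => ?_) fun b hb => ?_
    · obtain ⟨c, hc, hcw⟩ := hw
      refine ⟨cj g c, ?_, ?_⟩
      · rw [SetLike.mem_coe, MonoidHom.mem_ker, hinv]; exact hc
      · change (c : G) = (w : G) at hcw
        show (g : G) * c * (g : G)⁻¹ = ((g * w * g⁻¹ : P₀) : G)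
        rw [hcw]; rfl
    · exact ⟨⁅(⟨a, ha⟩ : B), ⟨b, hb⟩⁆, by
        rw [SetLike.mem_coe, MonoidHom.mem_ker, map_commutatorElement, commutatorElement_def,
          mul_comm (φ ⟨a, ha⟩), mul_inv_cancel_right, mul_inv_cancel], rfl⟩
    · exact ⟨cj zP ⟨b, hb⟩ * ⟨b, hb⟩⁻¹, by
        rw [SetLike.mem_coe, MonoidHom.mem_ker, map_mul, map_inv, hinv, mul_inv_cancel], rfl⟩
  refine (card_le_of_ker φ hsurj (D.subgroupOf B) fun x hx => ?_).trans hDrel.le
  obtain ⟨y, hy, hyx⟩ := hker hx
  rwa [← B.subtype_injective hyx]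

/-- **The criterion.** -/
theorem relIndex_iff (P : Sylow p G) (hbig : p ^ 2 ∣ Nat.card G) (hcore : pPrimeCore p G = ⊥)
    (hcore' : (⁅(P : Subgroup G), (P : Subgroup G)⁆).normalCore = ⊥)
    (hnas : ¬ ∃ S : Subgroup G, S.Normal ∧ IsSimpleGroup S ∧ ¬ IsMulCommutative S ∧
      Subgroup.centralizer (S : Set G) = ⊥) :
    (⁅(P : Subgroup G), (P : Subgroup G)⁆).relIndex (P : Subgroup G) = p ^ 2 ↔
      ∃ x : G, (∃ k : ℕ, orderOf x = p ^ k) ∧
        (Nat.card (Subgroup.centralizer ({x} : Set G))).factorization p = 2 := by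
  classical
  set P₀ := (P : Subgroup G) with hP₀
  set D := ⁅P₀, P₀⁆ with hD
  have hPp : IsPGroup p P₀ := P.2
  haveI : Group.IsNilpotent P₀ := hPp.isNilpotent
  have hcardP : Nat.card P₀ = p ^ (Nat.card G).factorization p := P.card_eq_multiplicity
  have h2P : p ^ 2 ≤ Nat.card P₀ := by
    rw [hcardP]
    exact Nat.pow_le_pow_right hp.out.pos
      ((hp.out.pow_dvd_iff_le_factorization Nat.card_pos.ne').mp hbig)
  have hDP : D ≤ P₀ := Subgroup.commutator_le_self P₀
  have hcmul : Nat.card D * D.relIndex P₀ = Nat.card P₀ := by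
    have := Subgroup.relIndex_mul_relIndex ⊥ D P₀ bot_le hDP
    rwa [Subgroup.relIndex_bot_left, Subgroup.relIndex_bot_left] at this
  -- the part in the Sylow subgroup of a centraliser
  have hsyl : ∀ (x : G), (∃ k : ℕ, orderOf x = p ^ k) → ∃ g : G, g * x * g⁻¹ ∈ P₀ ∧
      p ^ (Nat.card (Subgroup.centralizer ({x} : Set G))).factorization p ∣
        Nat.card ↥(P₀ ⊓ Subgroup.centralizer ({g * x * g⁻¹} : Set G)) := by
    rintro x ⟨k, hk⟩
    set C := Subgroup.centralizer ({x} : Set G)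
    obtain ⟨R⟩ : Nonempty (Sylow p C) := inferInstance
    let X : Subgroup C := Subgroup.zpowers ⟨x, Subgroup.mem_centralizer_singleton_iff.mpr rfl⟩
    haveI : X.Normal := ⟨fun w hw g => by
      obtain ⟨i, rfl⟩ := Subgroup.mem_zpowers_iff.mp hw
      refine Subgroup.mem_zpowers_iff.mpr ⟨i, Subtype.ext ?_⟩
      push_cast
      have hc : Commute (g : G) x := Subgroup.mem_centralizer_singleton_iff.mp g.2
      rw [(hc.zpow_right i).eq, mul_inv_cancel_right]⟩
    have hX : IsPGroup p X := IsPGroup.of_card (n := k) (by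
      rw [Nat.card_zpowers, ← Subgroup.orderOf_coe, hk])
    have hXR : X ≤ (R : Subgroup C) := by
      have h := hX.to_sup_of_normal_left R.2
      exact le_sup_left.trans (R.is_maximal' h le_sup_right).le
    obtain ⟨S, hS⟩ := (R.2.map C.subtype).exists_le_sylow
    obtain ⟨g, hg⟩ := MulAction.exists_smul_eq G S P
    have hconj : ∀ w ∈ (R : Subgroup C).map C.subtype, g * w * g⁻¹ ∈ P₀ := fun w hw => by
      rw [hP₀, ← hg]; exact ⟨w, hS hw, rfl⟩
    refine ⟨g, hconj x ⟨_, hXR (Subgroup.mem_zpowers _), rfl⟩, ?_⟩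
    rw [← R.card_eq_multiplicity, ← Subgroup.card_map_of_injective
      (f := ((MulAut.conj g).toMonoidHom).comp C.subtype)
      ((MulAut.conj g).injective.comp C.subtype_injective)]
    refine Subgroup.card_dvd_of_le ?_
    rintro _ ⟨w, hw, rfl⟩
    refine ⟨hconj w ⟨w, hw, rfl⟩, Subgroup.mem_centralizer_singleton_iff.mpr ?_⟩
    have hc : Commute (w : G) x := Subgroup.mem_centralizer_singleton_iff.mp w.2
    show g * w * g⁻¹ * (g * x * g⁻¹) = g * x * g⁻¹ * (g * w * g⁻¹)
    simp only [mul_assoc, inv_mul_cancel_left]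
    rw [← mul_assoc (w : G), hc.eq, mul_assoc]
  constructor
  · intro hidx
    by_cases hne : D = ⊥
    · refine ⟨1, ⟨0, by rw [orderOf_one, pow_zero]⟩, ?_⟩
      rw [Subgroup.centralizer_eq_top_iff_subset.mpr (by simp), Subgroup.card_top]
      rw [hne, Subgroup.card_bot, one_mul] at hcmul
      rw [← hne, hidx] at hcmul
      exact Nat.pow_right_injective hp.out.two_le (hcardP.symm.trans hcmul.symm)
    haveI : Nontrivial G := by
      by_contra h
      rw [not_nontrivial_iff_subsingleton] at h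
      exact hne (Subsingleton.elim _ _)
    obtain ⟨N, hN, hrel, hDN, hDrel, hBc⟩ := exists_normal hcore P hcore' hnas hidx hne
    haveI := hN
    set B := N ⊓ P₀ with hB
    have key : ∀ z ∈ P₀, z ∉ N →
        Nat.card ↥(P₀ ⊓ Subgroup.centralizer ({z} : Set G)) = p ^ 2 := by
      intro z hz hzN
      have hconj : ∀ b : B, z * b * z⁻¹ ∈ B := fun b =>
        ⟨hN.conj_mem _ b.2.1 z, P₀.mul_mem (P₀.mul_mem hz b.2.2) (P₀.inv_mem hz)⟩
      let f : B →* B :=
        { toFun := fun b => ⟨z * b * z⁻¹, hconj b⟩ * b⁻¹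
          map_one' := Subtype.ext (by simp)
          map_mul' := fun a b => Subtype.ext (by
            show z * (a * b : G) * z⁻¹ * (a * b : G)⁻¹ =
              z * a * z⁻¹ * (a : G)⁻¹ * (z * b * z⁻¹ * (b : G)⁻¹)
            have hcb := hBc _ (hconj b) _ (inv_mem a.2)
            calc z * (a * b : G) * z⁻¹ * (a * b : G)⁻¹
                = z * a * z⁻¹ * (z * b * z⁻¹ * ((b : G)⁻¹ * (a : G)⁻¹)) := by group
              _ = z * a * z⁻¹ * (z * b * z⁻¹ * ((a : G)⁻¹ * (b : G)⁻¹)) := by
                  rw [hBc _ (inv_mem b.2) _ (inv_mem a.2)]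
              _ = z * a * z⁻¹ * ((a : G)⁻¹ * (z * b * z⁻¹)) * (b : G)⁻¹ := by
                  rw [← hcb]; group
              _ = _ := by group) }
      set R := f.range.map B.subtype with hR
      have hg : B ⊔ Subgroup.zpowers z = P₀ :=
        sup_zpowers_eq inf_le_right hrel hz fun h => hzN h.1
      have hRn : (R.subgroupOf P₀).Normal := by
        constructor
        rintro ⟨_, hw⟩ ⟨_, ⟨b, rfl⟩, rfl⟩ g
        let S : Subgroup G := Subgroup.normalizer (R : Set G)
        have hS : P₀ ≤ S := by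
          rw [← hg]
          refine sup_le ?_ (Subgroup.zpowers_le.mpr ?_)
          · refine le_trans ?_ (Subgroup.centralizer_le_normalizer _)
            rintro a ha _ ⟨c, -, rfl⟩
            exact hBc _ c.2 a ha
          · rw [Subgroup.mem_normalizer_iff_map_conj_eq]
            refine Subgroup.eq_of_le_of_card_ge ?_ (Subgroup.card_map_of_injective
              (MulAut.conj z).injective).ge
            rintro _ ⟨_, ⟨_, ⟨c, rfl⟩, rfl⟩, rfl⟩
            refine ⟨f ⟨z * c * z⁻¹, hconj c⟩, ⟨_, rfl⟩, ?_⟩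
            show z * (z * c * z⁻¹) * z⁻¹ * (z * c * z⁻¹)⁻¹ = z * (z * c * z⁻¹ * (c : G)⁻¹) * z⁻¹
            group
        exact (Subgroup.mem_normalizer_iff.mp (hS g.2) _).mp ⟨f b, ⟨b, rfl⟩, rfl⟩
      have hDR : D = R := by
        refine le_antisymm (commutator_le_of hg hRn (fun a ha b hb => ?_) fun b hb => ?_) ?_
        · rw [commutatorElement_eq_one_iff_mul_comm.mpr (hBc a ha b hb)]; exact one_mem _
        · exact ⟨f ⟨b, hb⟩, ⟨_, rfl⟩, rfl⟩
        · rintro _ ⟨_, ⟨b, rfl⟩, rfl⟩
          exact Subgroup.commutator_mem_commutator hz b.2.2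
      have hker : Nat.card f.ker = p := by
        have h1 := Subgroup.index_range (f := f)
        have h2 : R.relIndex B = p :=
          (congrArg (fun H : Subgroup G => H.relIndex B) hDR).symm.trans hDrel
        rw [← h1, ← h2, hR, Subgroup.relIndex, Subgroup.subgroupOf,
          Subgroup.comap_map_eq_self_of_injective B.subtype_injective]
      set C := P₀ ⊓ Subgroup.centralizer ({z} : Set G) with hC
      have hCB : Nat.card ↥(B ⊓ C) = p := by
        suffices hmap : B ⊓ C = f.ker.map B.subtype by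
          rw [← hker, hmap, Subgroup.card_map_of_injective B.subtype_injective]
        ext w
        constructor
        · rintro ⟨hwB, hwC⟩
          refine ⟨⟨w, hwB⟩, Subtype.ext ?_, rfl⟩
          show z * w * z⁻¹ * w⁻¹ = 1
          rw [← Subgroup.mem_centralizer_singleton_iff.mp hwC.2]; group
        · rintro ⟨b, hb, rfl⟩
          refine ⟨b.2, b.2.2, Subgroup.mem_centralizer_singleton_iff.mpr ?_⟩
          have hb' : z * b * z⁻¹ * (b : G)⁻¹ = 1 := congrArg Subtype.val hb
          rw [mul_inv_eq_one, mul_inv_eq_iff_eq_mul] at hb'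
          exact hb'.symm
      have hi : (B ⊓ C).relIndex C = p := by
        have h1 : (B ⊓ C).relIndex C = B.relIndex C := Subgroup.inf_relIndex_right B C
        have h2 : B.relIndex C ≤ p :=
          hrel ▸ Subgroup.relIndex_le_of_le_right inf_le_left (Subgroup.index_ne_zero_of_finite (H := Subgroup.subgroupOf _ _))
        have h3 : B.relIndex C ∣ Nat.card C := Subgroup.relIndex_dvd_card _ _
        obtain ⟨n, hn⟩ := IsPGroup.iff_card.mp (hPp.to_le (inf_le_left : C ≤ P₀))
        rw [hn] at h3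
        obtain ⟨l, -, hl⟩ := (Nat.dvd_prime_pow hp.out).mp h3
        have hl0 : l ≠ 0 := fun h0 => hzN
          ((Subgroup.relIndex_eq_one.mp (show B.relIndex C = 1 by rw [hl, h0, pow_zero]))
            (show z ∈ C from ⟨hz, Subgroup.mem_centralizer_singleton_iff.mpr rfl⟩)).1
        rw [h1, hl]
        refine le_antisymm (hl ▸ h2) ?_
        exact Nat.le_of_dvd (pow_pos hp.out.pos l) (dvd_pow_self p hl0)
      have := Subgroup.relIndex_mul_relIndex ⊥ (B ⊓ C) C bot_le inf_le_right
      rw [Subgroup.relIndex_bot_left, Subgroup.relIndex_bot_left, hCB, hi] at this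
      rw [← this, sq]
    obtain ⟨z, hz, hzN⟩ : ∃ z ∈ P₀, z ∉ N := by
      by_contra h
      push_neg at h
      rw [Subgroup.relIndex_eq_one.mpr (le_inf h le_rfl : P₀ ≤ B)] at hrel
      exact hp.out.ne_one hrel.symm
    obtain ⟨k, hk⟩ := IsPGroup.iff_orderOf.mp hPp ⟨z, hz⟩
    refine ⟨z, ⟨k, by rwa [← Subgroup.orderOf_coe] at hk⟩, ?_⟩
    obtain ⟨g, hg, hdvd⟩ := hsyl z ⟨k, by rwa [← Subgroup.orderOf_coe] at hk⟩
    rw [key _ hg (fun h => hzN (by simpa [mul_assoc] using hN.conj_mem _ h g⁻¹))] at hdvd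
    refine le_antisymm ((Nat.pow_dvd_pow_iff_le_right hp.out.one_lt).mp hdvd) ?_
    rw [← hp.out.pow_dvd_iff_le_factorization Nat.card_pos.ne', ← key z hz hzN]
    exact Subgroup.card_dvd_of_le inf_le_right
  · rintro ⟨x, hxk, hx⟩
    obtain ⟨g, hg, hdvd⟩ := hsyl x hxk
    rw [hx] at hdvd
    set w := g * x * g⁻¹
    set C := P₀ ⊓ Subgroup.centralizer ({w} : Set G) with hC
    have hC2 : Nat.card C ≤ p ^ 2 := by
      obtain ⟨n, hn⟩ := IsPGroup.iff_card.mp (hPp.to_le (inf_le_left : C ≤ P₀))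
      rw [hn]
      refine Nat.pow_le_pow_right hp.out.pos ?_
      rw [← hx, ← hp.out.pow_dvd_iff_le_factorization Nat.card_pos.ne', ← hn,
        ← Subgroup.card_map_of_injective (K := C) (f := (MulAut.conj g⁻¹).toMonoidHom)
          (MulAut.conj g⁻¹).injective]
      refine Subgroup.card_dvd_of_le ?_
      rintro _ ⟨c, hc, rfl⟩
      rw [Subgroup.mem_centralizer_singleton_iff]
      have hcw : c * (g * x * g⁻¹) = g * x * g⁻¹ * c :=
        Subgroup.mem_centralizer_singleton_iff.mp hc.2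
      show g⁻¹ * c * g⁻¹⁻¹ * x = x * (g⁻¹ * c * g⁻¹⁻¹)
      calc g⁻¹ * c * g⁻¹⁻¹ * x = g⁻¹ * (c * (g * x * g⁻¹)) * g := by group
        _ = g⁻¹ * (g * x * g⁻¹ * c) * g := by rw [hcw]
        _ = _ := by group
    -- commutators with `w`
    have hle : C.relIndex P₀ ≤ Nat.card D := by
      let f : P₀ ⧸ C.subgroupOf P₀ → D := fun c => ⟨⁅(c.out : G), w⁆,
        Subgroup.commutator_mem_commutator c.out.2 hg⟩
      refine Nat.card_le_card_of_injective f fun a b hab => ?_
      have h : ⁅(a.out : G), w⁆ = ⁅(b.out : G), w⁆ := congrArg Subtype.val hab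
      rw [← QuotientGroup.out_eq' a, ← QuotientGroup.out_eq' b, QuotientGroup.eq]
      refine ⟨((a.out)⁻¹ * b.out).2, Subgroup.mem_centralizer_singleton_iff.mpr ?_⟩
      simp only [commutatorElement_def] at h
      have h' : (a.out : G) * w * (a.out : G)⁻¹ = (b.out : G) * w * (b.out : G)⁻¹ :=
        mul_right_cancel h
      show (a.out : G)⁻¹ * (b.out : G) * w = w * ((a.out : G)⁻¹ * (b.out : G))
      calc (a.out : G)⁻¹ * (b.out : G) * w
          = (a.out : G)⁻¹ * ((b.out : G) * w * (b.out : G)⁻¹) * (b.out : G) := by group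
        _ = (a.out : G)⁻¹ * ((a.out : G) * w * (a.out : G)⁻¹) * (b.out : G) := by rw [h']
        _ = _ := by group
    have hmul := Subgroup.relIndex_mul_relIndex ⊥ C P₀ bot_le inf_le_left
    rw [Subgroup.relIndex_bot_left, Subgroup.relIndex_bot_left] at hmul
    have hup : D.relIndex P₀ ≤ p ^ 2 := by
      refine Nat.le_of_mul_le_mul_left ?_ (Nat.card_pos : 0 < Nat.card D)
      rw [hcmul, ← hmul, mul_comm (Nat.card D)]
      exact Nat.mul_le_mul hC2 hle
    obtain ⟨l, -, hl⟩ := (Nat.dvd_prime_pow hp.out).mp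
      (hcardP ▸ Subgroup.relIndex_dvd_card D P₀)
    have hl2 : l ≤ 2 := (Nat.pow_le_pow_iff_right hp.out.one_lt).mp (hl ▸ hup)
    by_cases hl1 : l ≤ 1
    · exfalso
      have hsmall : D.relIndex P₀ ≤ p := by
        rw [hl]; exact le_of_le_of_eq (Nat.pow_le_pow_right hp.out.pos hl1) (pow_one p)
      have hbot : D = ⊥ := by
        rw [hD, Subgroup.commutator_eq_bot_iff_le_centralizer]
        exact fun a ha b hb => comm_of_relIndex hPp hsmall hb ha
      rw [hbot, Subgroup.card_bot, one_mul] at hcmul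
      rw [← hbot] at hcmul
      have h2 := hp.out.two_le
      nlinarith
    rw [hl, show l = 2 by omega]

end Main

end Cfsg.Agent.KnownB.Misc
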